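import Mathlib

/-!
# A computable field with four elements, and `4 × 4` matrices over it (helper94)

Used to identify an index-2 subgroup of a point stabiliser of the Held group with `Sp₄(4)`.
-/

set_option autoImplicit false

namespace Cfsg.Agent.H94.HS

/-- the field with four elements: `0, 1, ω, ω²` -/
inductive F4 : Type
  | z | o | w | v
  deriving DecidableEq

namespace F4

instance : Fintype F4 where
  elems := {z, o, w, v}
  complete := fun x => by cases x <;> decide

/-- addition -/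
def add : F4 → F4 → F4
  | z, x => x
  | o, z => o | o, o => z | o, w => v | o, v => w
  | w, z => w | w, o => v | w, w => z | w, v => o
  | v, z => v | v, o => w | v, w => o | v, v => z

/-- multiplication -/
def mul : F4 → F4 → F4
  | z, _ => z
  | o, x => x
  | w, z => z | w, o => w | w, w => v | w, v => o
  | v, z => z | v, o => v | v, w => o | v, v => w

/-- inverse -/
def inv : F4 → F4
  | z => z | o => o | w => v | v => w

instance : Add F4 := ⟨add⟩
instance : Mul F4 := ⟨mul⟩
instance : Zero F4 := ⟨z⟩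
instance : One F4 := ⟨o⟩
instance : Neg F4 := ⟨id⟩
instance : Inv F4 := ⟨inv⟩

instance : Field F4 where
  add_assoc := by decide
  zero_add := by decide
  add_zero := by decide
  nsmul := nsmulRec
  zsmul := zsmulRec
  neg_add_cancel := by decide
  add_comm := by decide
  left_distrib := by decide
  right_distrib := by decide
  zero_mul := by decide
  mul_zero := by decide
  mul_assoc := by decide
  one_mul := by decide
  mul_one := by decide
  mul_comm := by decide
  exists_pair_ne := ⟨z, o, by decide⟩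
  mul_inv_cancel := by decide
  inv_zero := rfl
  nnqsmul := _
  qsmul := _

theorem card_eq : Fintype.card F4 = 4 := rfl

theorem neg_one_eq : (-1 : F4) = 1 := rfl

theorem sq_eq_one : ∀ l : F4, l * l = 1 → l = 1 := by decide

end F4

/-- a vector of length four -/
structure V4 : Type where
  x0 : F4
  x1 : F4
  x2 : F4
  x3 : F4
  deriving DecidableEq

/-- a `4 × 4` matrix, by rows -/
structure M4 : Type where
  r0 : V4
  r1 : V4
  r2 : V4
  r3 : V4
  deriving DecidableEq

namespace V4

/-- sum -/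
def add (a b : V4) : V4 := ⟨F4.add a.x0 b.x0, F4.add a.x1 b.x1, F4.add a.x2 b.x2, F4.add a.x3 b.x3⟩

/-- scalar multiple -/
def smul (l : F4) (a : V4) : V4 := ⟨F4.mul l a.x0, F4.mul l a.x1, F4.mul l a.x2, F4.mul l a.x3⟩

/-- dot product -/
def dot (a b : V4) : F4 :=
  F4.add (F4.add (F4.mul a.x0 b.x0) (F4.mul a.x1 b.x1))
    (F4.add (F4.mul a.x2 b.x2) (F4.mul a.x3 b.x3))

/-- the zero vector -/
def zero : V4 := ⟨F4.z, F4.z, F4.z, F4.z⟩

end V4

/-- the index type of the symplectic group -/
abbrev I4 : Type := Fin 2 ⊕ Fin 2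

/-- the function of a vector -/
def toVec (a : V4) : I4 → F4 := Sum.elim ![a.x0, a.x1] ![a.x2, a.x3]

theorem toVec_injective : Function.Injective toVec := by
  intro a b h
  have h0 := congrFun h (Sum.inl 0)
  have h1 := congrFun h (Sum.inl 1)
  have h2 := congrFun h (Sum.inr 0)
  have h3 := congrFun h (Sum.inr 1)
  cases a; cases b
  simp only [toVec, Sum.elim_inl, Sum.elim_inr, Matrix.cons_val_zero, Matrix.cons_val_one] at h0 h1 h2 h3
  simp_all

theorem toVec_add (a b : V4) : toVec (V4.add a b) = toVec a + toVec b := by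
  funext i
  rcases i with i | i <;> fin_cases i <;> rfl

theorem toVec_smul (l : F4) (a : V4) : toVec (V4.smul l a) = l • toVec a := by
  funext i
  rcases i with i | i <;> fin_cases i <;> rfl

theorem toVec_zero : toVec V4.zero = 0 := by
  funext i
  rcases i with i | i <;> fin_cases i <;> rfl

namespace M4

/-- matrix times vector -/
def mv (A : M4) (a : V4) : V4 := ⟨V4.dot A.r0 a, V4.dot A.r1 a, V4.dot A.r2 a, V4.dot A.r3 a⟩

/-- row vector times matrix -/
def vm (a : V4) (B : M4) : V4 :=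
  V4.add (V4.add (V4.smul a.x0 B.r0) (V4.smul a.x1 B.r1))
    (V4.add (V4.smul a.x2 B.r2) (V4.smul a.x3 B.r3))

/-- product -/
def mul (A B : M4) : M4 := ⟨vm A.r0 B, vm A.r1 B, vm A.r2 B, vm A.r3 B⟩

/-- transpose -/
def tr (A : M4) : M4 :=
  ⟨⟨A.r0.x0, A.r1.x0, A.r2.x0, A.r3.x0⟩, ⟨A.r0.x1, A.r1.x1, A.r2.x1, A.r3.x1⟩,
    ⟨A.r0.x2, A.r1.x2, A.r2.x2, A.r3.x2⟩, ⟨A.r0.x3, A.r1.x3, A.r2.x3, A.r3.x3⟩⟩

/-- identity -/
def one : M4 :=
  ⟨⟨F4.o, F4.z, F4.z, F4.z⟩, ⟨F4.z, F4.o, F4.z, F4.z⟩, ⟨F4.z, F4.z, F4.o, F4.z⟩,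
    ⟨F4.z, F4.z, F4.z, F4.o⟩⟩

/-- the symplectic form -/
def jm : M4 :=
  ⟨⟨F4.z, F4.z, F4.o, F4.z⟩, ⟨F4.z, F4.z, F4.z, F4.o⟩, ⟨F4.o, F4.z, F4.z, F4.z⟩,
    ⟨F4.z, F4.o, F4.z, F4.z⟩⟩

end M4

/-- the matrix of a matrix -/
def toMat (A : M4) : Matrix I4 I4 F4 :=
  Matrix.of fun i => toVec (Sum.elim ![A.r0, A.r1] ![A.r2, A.r3] i)

theorem toMat_apply (A : M4) (i j : I4) :
    toMat A i j = toVec (Sum.elim ![A.r0, A.r1] ![A.r2, A.r3] i) j := rfl

theorem toVec_mv (A : M4) (a : V4) : toVec (M4.mv A a) = Matrix.mulVec (toMat A) (toVec a) := by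
  funext i
  rcases i with i | i <;> fin_cases i <;>
    simp [Matrix.mulVec, dotProduct, Fintype.sum_sum_type, Fin.sum_univ_two, toMat_apply, toVec,
      M4.mv] <;> rfl

theorem toMat_mul (A B : M4) : toMat (M4.mul A B) = toMat A * toMat B := by
  ext i j
  rcases i with i | i <;> rcases j with j | j <;> fin_cases i <;> fin_cases j <;>
    simp [Matrix.mul_apply, Fintype.sum_sum_type, Fin.sum_univ_two, toMat_apply, toVec,
      M4.mul] <;> rfl

theorem toMat_tr (A : M4) : toMat (M4.tr A) = (toMat A).transpose := by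
  ext i j
  rcases i with i | i <;> rcases j with j | j <;> fin_cases i <;> fin_cases j <;> rfl

theorem toMat_one : toMat M4.one = 1 := by
  ext i j
  rcases i with i | i <;> rcases j with j | j <;> fin_cases i <;> fin_cases j <;> rfl

theorem toMat_jm : toMat M4.jm = Matrix.J (Fin 2) F4 := by
  ext i j
  rcases i with i | i <;> rcases j with j | j <;> fin_cases i <;> fin_cases j <;> rfl

end Cfsg.Agent.H94.HS
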